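import Cfsg.Agent.Lib.Recog.SporBound.TriF8.Data

set_option autoImplicit false
set_option maxRecDepth 20000

/-! Checks of the certificate, part 4. -/

namespace CfsgLib.Recog.SporBound.TriF8
open CfsgLib.Recog.SporBound
open CfsgLib.ThreeTrans.CosetIndex (forallFrom)

theorem steps5 : cert.stepsPart 300 60 = true := by decide +kernel

theorem steps6 : cert.stepsPart 360 60 = true := by decide +kernel

theorem steps7 : cert.stepsPart 420 60 = true := by decide +kernel

theorem steps8 : cert.stepsPart 480 60 = true := by decide +kernel

end CfsgLib.Recog.SporBound.TriF8
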